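import Cfsg.Agent.H113.PSL.Facts
import Cfsg.Agent.H113.PSL.Theta
import Cfsg.Agent.H53.HC.Flag_m3
import Cfsg.Agent.H33.IM
import Cfsg.Agent.S0495
import Cfsg.Agent.H3.CenT
import Mathlib.FieldTheory.Finite.Extension
import Cfsg.Agent.Prune
set_option linter.all false
prune_inst 0x7f00000000000000000000000000000000000000000000000000000000000000000000000000000000000000000000000000000000000000000000000000000000000000000000000000000000000000003fffffffffffffffffffffffffffbeffbdffffffff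
open scoped Cfsg.Agent.FastGrp

/-!
# The facts of hub H5 for `PSL_n(q)`, `n ≥ 3` (helper113)

* `hasCusp` : the cuspidal characters of `GL_n(q)` trivial on scalars (from `Cfsg.Agent.H139.Cusp`);
* `im_psl` : Itô-Michler;
* `conn_psl`, `indep_psl`, `tri_psl` : the degree graph is connected, has no three pairwise non-adjacent vertices, and
  contains a triangle, if the group is not a `PSL(2,F)`.
-/

set_option autoImplicit false
set_option linter.unusedSectionVars false

open Cfsg Matrix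

namespace Cfsg.Agent.H113.PSL.Main

open Cfsg.Agent.H671.H5 Cfsg.Agent.H113.PSL.Degrees Cfsg.Agent.H113.PSL.Facts Cfsg.Agent.H139.Cusp

universe u

/-- **`GL_n(q)` has a cuspidal irreducible character of degree `∏_{0<i<n} (q^i - 1)`, trivial on scalars.** -/
theorem hasCusp (F : Type u) [Field F] [Fintype F] (n : ℕ) (hn : 1 ≤ n) : HasCusp F n := by
  classical
  obtain ⟨p, hp⟩ := CharP.exists F
  have hpp : Fact p.Prime := ⟨CharP.char_is_prime F p⟩
  have hnz : NeZero n := ⟨by omega⟩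
  let L := FiniteField.Extension F p n
  have hL : Module.finrank F L = n := FiniteField.finrank_extension F p n
  obtain ⟨θ, h1, h2⟩ := Cfsg.Agent.H113.PSL.Theta.exists_theta (F := F) (L := L) hn hL
  have hreg : Regular F n θ := by
    intro i hi hin
    obtain ⟨x, hx⟩ := h2 i hi hin
    exact ⟨x, fun h => hx h.symm⟩
  refine ⟨psi L θ, psi_isIrr θ hL hreg, psi_isCusp L θ, ?_, ?_⟩
  · rw [psi_one L θ (by omega), degP, Nat.card_eq_fintype_card]
  · intro c
    have h3 := psi_scalar θ hL c 1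
    rw [mul_one, h1 (c : F) c.ne_zero, one_mul] at h3
    exact h3

/-- `PSL(3, 2) ≅ PSL(2, 7)` -/
theorem isL2_of_three_two {S : Type u} [Group S] [Finite S] [IsSimpleGroup S] {F : Type} [Field F] [Fintype F]
    (hF : Fintype.card F = 2) (e : S ≃* ProjectiveSpecialLinearGroup (Fin 3) F) : IsL2 S := by
  have h1 : Nat.card S = 168 := by
    rw [Nat.card_congr e.toEquiv, Cfsg.Agent.H3.CenT.card_psl_three_two hF]
  have h7 : Fact (Nat.Prime 7) := ⟨by norm_num⟩
  exact ⟨ZMod 7, inferInstance, inferInstance, by rw [ZMod.card]; norm_num,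
    Cfsg.Agent.S0495.result h1 (ZMod.card 7)⟩

/-- the shape of `PSL_n(q)`, `n ≥ 3` -/
theorem exists_shape {S : Type u} [Group S] [Finite S] [IsSimpleGroup S] (h : Cfsg.IsPSL S) (hL2 : ¬ IsL2 S) :
    ∃ (F : Type) (_ : Field F) (_ : Fintype F) (n : ℕ), 3 ≤ n ∧ (2 < Fintype.card F ∨ 4 ≤ n) ∧
      Nonempty (S ≃* ProjectiveSpecialLinearGroup (Fin n) F) := by
  obtain ⟨F, _, _, n, hn, h4, ⟨e⟩⟩ := h
  have hn2 : n ≠ 2 := by
    rintro rfl
    exact hL2 ⟨F, inferInstance, inferInstance, h4 rfl, ⟨e⟩⟩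
  refine ⟨F, inferInstance, inferInstance, n, by omega, ?_, ⟨e⟩⟩
  by_contra hcon
  push Not at hcon
  have hq := Fintype.one_lt_card (α := F)
  have h3 : n = 3 := by omega
  subst h3
  exact hL2 (isL2_of_three_two (by omega) e)

variable {S : Type u} [Group S] [Finite S]

/-- **Itô-Michler for `PSL_n(q)`, `n ≥ 3`.** -/
theorem im_of_equiv {F : Type} [Field F] [Fintype F] {n : ℕ} (hn : 3 ≤ n)
    (e : S ≃* ProjectiveSpecialLinearGroup (Fin n) F) {p : ℕ} (hp : p.Prime) (hd : p ∣ Nat.card S) :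
    Cfsg.Agent.H33.IM p S := by
  have h : Cfsg.Agent.H33.IM p (ProjectiveSpecialLinearGroup (Fin n) F) :=
    im hn (fun m hm => hasCusp F m hm) hp (by rwa [← Nat.card_congr e.toEquiv])
  exact h.of_equiv e

/-- **Itô-Michler for `PSL_n(q)`** (not a `PSL_2`). -/
theorem im_psl (h : Cfsg.IsPSL S) (hL2 : ¬ IsL2 S) {p : ℕ} (hp : p.Prime) (hd : p ∣ Nat.card S) :
    Cfsg.Agent.H33.IM p S := by
  obtain ⟨F, _, _, n, hn, h4, ⟨e⟩⟩ := h
  have hn2 : n ≠ 2 := by
    rintro rfl
    exact hL2 ⟨F, inferInstance, inferInstance, h4 rfl, ⟨e⟩⟩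
  exact im_of_equiv (by omega) e hp hd

/-- **The degree graph of `PSL_n(q)` is connected** (not a `PSL_2`). -/
theorem conn_psl [IsSimpleGroup S] (h : Cfsg.IsPSL S) (hL2 : ¬ IsL2 S) :
    ((Cfsg.degreeGraph S).induce (Cfsg.degreePrimes S)).Connected := by
  obtain ⟨F, _, _, n, hn, h4, ⟨e⟩⟩ := exists_shape h hL2
  rw [H424.DegTools.degreeGraph_congr e, H424.DegTools.degreePrimes_congr e]
  exact conn hn (fun m hm => hasCusp F m hm) h4

/-- **Among three vertices two are adjacent.** -/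
theorem indep_psl [IsSimpleGroup S] (h : Cfsg.IsPSL S) (hL2 : ¬ IsL2 S) {r s t : ℕ} (hr : r ∈ degreePrimes S)
    (hs : s ∈ degreePrimes S) (ht : t ∈ degreePrimes S) (hrs : r ≠ s) (hst : s ≠ t) (hrt : r ≠ t) :
    Adj r s S ∨ Adj s t S ∨ Adj r t S := by
  obtain ⟨F, _, _, n, hn, h4, ⟨e⟩⟩ := exists_shape h hL2
  unfold Adj
  rw [H424.DegTools.degreePrimes_congr e] at hr hs ht
  rw [H424.DegTools.degreeGraph_congr e]
  exact indep hn (fun m hm => hasCusp F m hm) hr hs ht hrs hst hrt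

/-- **There is a triangle.** -/
theorem tri_psl [IsSimpleGroup S] (h : Cfsg.IsPSL S) (hL2 : ¬ IsL2 S) :
    ∃ r s t : ℕ, Adj r s S ∧ Adj s t S ∧ Adj r t S := by
  obtain ⟨F, _, _, n, hn, h4, ⟨e⟩⟩ := exists_shape h hL2
  unfold Adj
  rw [H424.DegTools.degreeGraph_congr e]
  exact tri hn (fun m hm => hasCusp F m hm) h4

end Cfsg.Agent.H113.PSL.Main
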